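import Cfsg.Agent.Lib.CosetCert.D.OnM11.Tbl
import Cfsg.Agent.Lib.CosetCert.D.OnM11.Dg.CT

namespace Cfsg.Agent.Lib.CosetCert.D.OnM11.Dg.Tab

open Cfsg.Agent.Lib.CosetCert Cfsg.Agent.Lib.TC.Core Cfsg.Agent.Lib.TC.Enc Cfsg.Agent.Lib.TC.Pres Cfsg.Agent.Lib.TC.Perm Cfsg.Agent.Lib.TC.Main

set_option maxRecDepth 100000

open Cfsg.Agent.Lib.CosetCert.D.OnM11.Tbl

/-- The chunks. -/
noncomputable def ctree : Tr Nat := Cfsg.Agent.Lib.CosetCert.D.OnM11.Dg.CT.tree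

/-- The relator rotations. -/
noncomputable def rotT : Tr (List Nat) := (Tr.node (Tr.node (Tr.node (Tr.node (Tr.node (Tr.node (Tr.leaf []) (Tr.leaf [0,2,0,1,0,1,0,2,0,1,0,1,1,0,2,0,1,0,2])) (Tr.node (Tr.leaf [1,0,1,0,2,0,1,0,1,1,0,2,0,1,0,2,0,2,0]) (Tr.leaf []))) (Tr.node (Tr.node (Tr.leaf [2,2,2,2]) (Tr.leaf [])) (Tr.node (Tr.leaf [1,1,0,2,0,1,0,2,0,2,0,1,0,1,0,2,0,1,0]) (Tr.leaf [])))) (Tr.node (Tr.node (Tr.node (Tr.leaf [0,2,0,2,0,2,0,2,0,2,0,2,0,2,0,2,0,2,0,2,0,2]) (Tr.leaf [1,0,2,0,2,0,1,0,1,0,2,0,1,0,2,2,0,2,0])) (Tr.node (Tr.leaf [2,0,1,0,1,1,0,2,0,1,0,2,0,2,0,1,0,1,0]) (Tr.leaf []))) (Tr.node (Tr.node (Tr.leaf [0,1,1,0,1,1,0,1,1,0,2,2,0,2,2,0,1,1]) (Tr.leaf [])) (Tr.node (Tr.leaf [0,1,0,2,0,2,0,1,0,1,0,2,0,1,0,1,1,0,2]) (Tr.leaf []))))) (Tr.node (Tr.node (Tr.node (Tr.node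 (Tr.leaf [0,1,0,1,0,1,0,1,0,1,0,1,0,1,0,1,0,1,0,1,0,1]) (Tr.leaf [2,2,0,2,0,1,0,2,0,2,0,1,0,1,0,2,0,1,0])) (Tr.node (Tr.leaf [1,0,2,0,1,0,1,1,0,2,0,1,0,2,0,2,0,1,0]) (Tr.leaf []))) (Tr.node (Tr.node (Tr.leaf [1,1,0,1,1,0,1,1,0,1,1,0,2,2,0,2,2,0]) (Tr.leaf [])) (Tr.node (Tr.leaf [0,2,0,1,0,2,0,2,0,1,0,1,0,2,0,1,0,1,1]) (Tr.leaf [])))) (Tr.node (Tr.node (Tr.node (Tr.leaf [2,0,2,0,2,0,2,0,2,0,2,0,2,0,2,0,2,0,2,0,2,0]) (Tr.leaf [1,2])) (Tr.node (Tr.leaf [1,0,1,1,0,2,0,1,0,2,0,2,0,1,0,1,0,2,0]) (Tr.leaf []))) (Tr.node (Tr.node (Tr.leaf [0,2,2,0,1,1,0,1,1,0,1,1,0,1,1,0,2,2]) (Tr.leaf [])) (Tr.node (Tr.leaf [0,2,0,2,0,1,0,1,0,2,0,1,0,1,1,0,2,0,1]) (Tr.leaf [])))))) (Tr.node (Tr.node (Tr.node (Tr.node (Tr.node (Tr.leaf [1,0,1,0,1,0,1,0,1,0,1,0,1,0,1,0,1,0,1,0,1,0]) (Tr.leaf [2,0,1,0,1,0,2,0,1,0,1,1,0,2,0,1,0,2,0]))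 (Tr.node (Tr.leaf [0,1,0,2,0,1,0,1,1,0,2,0,1,0,2,0,2,0,1]) (Tr.leaf []))) (Tr.node (Tr.node (Tr.leaf [0,1,1,0,1,1,0,1,1,0,1,1,0,2,2,0,2,2]) (Tr.leaf [])) (Tr.node (Tr.leaf [1,0,2,0,1,0,2,0,2,0,1,0,1,0,2,0,1,0,1]) (Tr.leaf [])))) (Tr.node (Tr.node (Tr.node (Tr.leaf [2,0,2,0,2,0,2,0,2,0,2,0,2,0,2,0,2,0,2,0,2,0]) (Tr.leaf [0,0])) (Tr.node (Tr.leaf [0,1,0,1,1,0,2,0,1,0,2,0,2,0,1,0,1,0,2]) (Tr.leaf []))) (Tr.node (Tr.node (Tr.leaf [2,2,0,2,2,0,1,1,0,1,1,0,1,1,0,1,1,0]) (Tr.leaf [])) (Tr.node (Tr.leaf [1,0,2,0,2,0,1,0,1,0,2,0,1,0,1,1,0,2,0]) (Tr.leaf []))))) (Tr.node (Tr.node (Tr.node (Tr.node (Tr.leaf [1,0,1,0,1,0,1,0,1,0,1,0,1,0,1,0,1,0,1,0,1,0]) (Tr.leaf [2,0,1,0,2,0,2,0,1,0,1,0,2,0,1,0,2,2,0])) (Tr.node (Tr.leaf [0,2,0,1,0,1,1,0,2,0,1,0,2,0,2,0,1,0,1]) (Tr.leaf []))) (Tr.node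 (Tr.node (Tr.leaf [1,0,1,1,0,1,1,0,1,1,0,2,2,0,2,2,0,1]) (Tr.leaf [])) (Tr.node (Tr.leaf [2,0,1,0,2,0,2,0,1,0,1,0,2,0,1,0,1,1,0]) (Tr.leaf [])))) (Tr.node (Tr.node (Tr.node (Tr.leaf [1,1,1,1]) (Tr.leaf [2,1])) (Tr.node (Tr.leaf [0,1,1,0,2,0,1,0,2,0,2,0,1,0,1,0,2,0,1]) (Tr.leaf []))) (Tr.node (Tr.node (Tr.leaf [0,1,0,1,0,2,0,1,0,1,1,0,2,0,1,0,2,0,2]) (Tr.leaf [])) (Tr.node (Tr.leaf [2,0,2,0,1,0,1,0,2,0,1,0,1,1,0,2,0,1,0]) (Tr.leaf [])))))))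

/-- The witnesses of the rotations. -/
noncomputable def witT : Tr (Nat × Nat × Bool) := (Tr.node (Tr.node (Tr.node (Tr.node (Tr.node (Tr.node (Tr.leaf (0,0,false)) (Tr.leaf (3,17,false))) (Tr.node (Tr.leaf (3,1,false)) (Tr.leaf (0,0,false)))) (Tr.node (Tr.node (Tr.leaf (1,1,true)) (Tr.leaf (0,0,false))) (Tr.node (Tr.leaf (3,9,false)) (Tr.leaf (0,0,false))))) (Tr.node (Tr.node (Tr.node (Tr.leaf (0,1,true)) (Tr.leaf (3,13,true))) (Tr.node (Tr.leaf (3,5,false)) (Tr.leaf (0,0,false)))) (Tr.node (Tr.node (Tr.leaf (2,3,false)) (Tr.leaf (0,0,false))) (Tr.node (Tr.leaf (3,13,false)) (Tr.leaf (0,0,false)))))) (Tr.node (Tr.node (Tr.node (Tr.node (Tr.leaf (0,2,false)) (Tr.leaf (3,8,true))) (Tr.node (Tr.leaf (3,3,false)) (Tr.leaf (0,0,false)))) (Tr.node (Tr.node (Tr.leaf (2,1,false))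 (Tr.leaf (0,0,false))) (Tr.node (Tr.leaf (3,11,false)) (Tr.leaf (0,0,false))))) (Tr.node (Tr.node (Tr.node (Tr.leaf (0,4,true)) (Tr.leaf (4,1,false))) (Tr.node (Tr.leaf (3,7,false)) (Tr.leaf (0,0,false)))) (Tr.node (Tr.node (Tr.leaf (2,15,false)) (Tr.leaf (0,0,false))) (Tr.node (Tr.leaf (3,15,false)) (Tr.leaf (0,0,false))))))) (Tr.node (Tr.node (Tr.node (Tr.node (Tr.node (Tr.leaf (0,1,false)) (Tr.leaf (3,18,false))) (Tr.node (Tr.leaf (3,2,false)) (Tr.leaf (0,0,false)))) (Tr.node (Tr.node (Tr.leaf (2,0,false)) (Tr.leaf (0,0,false))) (Tr.node (Tr.leaf (3,10,false)) (Tr.leaf (0,0,false))))) (Tr.node (Tr.node (Tr.node (Tr.leaf (0,2,true)) (Tr.leaf (4,0,false))) (Tr.node (Tr.leaf (3,6,false)) (Tr.leaf (0,0,false)))) (Tr.node (Tr.node (Tr.leaf (2,13,false)) (Tr.leaf (0,0,false)))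 (Tr.node (Tr.leaf (3,14,false)) (Tr.leaf (0,0,false)))))) (Tr.node (Tr.node (Tr.node (Tr.node (Tr.leaf (0,15,false)) (Tr.leaf (3,11,true))) (Tr.node (Tr.leaf (3,4,false)) (Tr.leaf (0,0,false)))) (Tr.node (Tr.node (Tr.leaf (2,2,false)) (Tr.leaf (0,0,false))) (Tr.node (Tr.leaf (3,12,false)) (Tr.leaf (0,0,false))))) (Tr.node (Tr.node (Tr.node (Tr.leaf (1,1,false)) (Tr.leaf (4,2,false))) (Tr.node (Tr.leaf (3,8,false)) (Tr.leaf (0,0,false)))) (Tr.node (Tr.node (Tr.leaf (3,0,false)) (Tr.leaf (0,0,false))) (Tr.node (Tr.leaf (3,16,false)) (Tr.leaf (0,0,false))))))))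

/-- The subgroup rotations. -/
noncomputable def srotT : Tr (List Nat × Nat × List Nat) := (Tr.leaf ([0],1,[]))

/-- The certificate. -/
noncomputable def cert : Cert :=
  mkCert 3 2433 6815 6 40 41 6 63 176 37 111 162 137438953471 2251799813685247 13 12 8191 4095 25 24 3 ctree.get rotT.get srotT.get

/-- The relators. -/
def rels : List (List Nat) :=
  [[0,1,0,1,0,1,0,1,0,1,0,1,0,1,0,1,0,1,0,1,0,1],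
   [1,1,1,1],
   [0,1,1,0,1,1,0,1,1,0,1,1,0,2,2,0,2,2],
   [0,1,0,1,0,2,0,1,0,1,1,0,2,0,1,0,2,0,2]]

/-- The words of the subgroup. -/
def subs : List (List Nat) :=
  [[0,1]]

end Cfsg.Agent.Lib.CosetCert.D.OnM11.Dg.Tab
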